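import Mathlib
import Groth.Agent.H63.ComplMap

set_option autoImplicit false
set_option linter.unusedSectionVars false
universe u
open CategoryTheory

namespace Groth.Agent.H61.LocFun

open ArtFun ArtFun.Art Groth.Agent.H63

variable {Λ : Type u} {k : Type u} [CommRing Λ] [Field k] [Algebra Λ k]
variable {R₀ : Type u} [CommRing R₀] [Algebra Λ R₀] [IsNoetherianRing R₀] {res₀ : R₀ →ₐ[Λ] k}

/-- restriction of an augmented map on the completion to `R₀` -/
noncomputable def restr (A : Art Λ k)
    (φ : HomSet (AdicCompletion (RingHom.ker res₀) R₀) (complRes R₀ res₀) A) :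
    {ψ₀ : R₀ →ₐ[Λ] A // A.res.comp ψ₀ = res₀} :=
  ⟨φ.1.comp (complOf R₀ res₀), by
    rw [← AlgHom.comp_assoc, φ.2, complRes_comp_complOf]⟩

theorem restr_apply (A : Art Λ k)
    (φ : HomSet (AdicCompletion (RingHom.ker res₀) R₀) (complRes R₀ res₀) A) (r : R₀) :
    (restr A φ).1 r = φ.1 (algebraMap R₀ _ r) := rfl

theorem restr_bijective (A : Art Λ k) :
    Function.Bijective (restr (R₀ := R₀) (res₀ := res₀) A) := by
  constructor
  · intro φ φ' h
    apply homSet_compl_ext
    intro r
    have := AlgHom.congr_fun (congrArg Subtype.val h) r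
    exact this
  · intro ψ
    obtain ⟨φ, hφ⟩ := exists_homSet_compl ψ.1 ψ.2
    refine ⟨φ, ?_⟩
    apply Subtype.ext
    apply AlgHom.ext
    intro r
    exact hφ r

theorem restr_map {A B : Art Λ k} (h : A ⟶ B)
    (φ : HomSet (AdicCompletion (RingHom.ker res₀) R₀) (complRes R₀ res₀) A) :
    (restr B (HomSet.map h φ)).1 = h.toAlgHom.comp (restr A φ).1 := rfl

end Groth.Agent.H61.LocFun
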