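import Mathlib
import Groth.Prelude.Def_ArtFun4

set_option autoImplicit false
set_option linter.unusedSectionVars false
universe u
open CategoryTheory CategoryTheory.Limits AlgebraicGeometry

namespace Groth.Agent.H61.LocFun

open ArtFun ArtFun.Art

variable {k : Type u} [Field k]

/-- the prime spectrum of an Artinian local ring is a point -/
theorem art_spec_subsingleton (A : Art k k) : Subsingleton (Art.spec A) := by
  constructor
  intro z z'
  change PrimeSpectrum A at z z'
  have h1 : z.asIdeal = IsLocalRing.maximalIdeal A :=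
    IsLocalRing.eq_maximalIdeal (IsArtinianRing.isMaximal_of_isPrime z.asIdeal)
  have h2 : z'.asIdeal = IsLocalRing.maximalIdeal A :=
    IsLocalRing.eq_maximalIdeal (IsArtinianRing.isMaximal_of_isPrime z'.asIdeal)
  exact PrimeSpectrum.ext (h1.trans h2.symm)

variable {M : Scheme.{u}} (m : M ⟶ Spec (CommRingCat.of k))
  (x₀ : Spec (CommRingCat.of k) ⟶ M)
variable {S : Type u} [CommRing S] [Algebra k S]
  (j : Spec (CommRingCat.of S) ⟶ M) [IsOpenImmersion j] (res₀ : S →ₐ[k] k)

/-- the pointed maps -/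
abbrev Pts (A : Art k k) : Type u :=
  {g : Art.spec A ⟶ M // g ≫ m = Art.specMap (Art.ofBase A) ∧ Art.specRes A ≫ g = x₀}

/-- from augmented algebra maps to pointed maps -/
noncomputable def toPt (hjm : j ≫ m = Spec.map (CommRingCat.ofHom (algebraMap k S)))
    (hjx : Spec.map (CommRingCat.ofHom res₀.toRingHom) ≫ j = x₀) (A : Art k k)
    (ψ : {ψ₀ : S →ₐ[k] A // A.res.comp ψ₀ = res₀}) : Pts m x₀ A :=
  ⟨Spec.map (CommRingCat.ofHom ψ.1.toRingHom) ≫ j, by
    constructor
    · rw [Category.assoc, hjm, ← Spec.map_comp, ← CommRingCat.ofHom_comp]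
      congr 2
      exact ψ.1.comp_algebraMap
    · rw [← hjx, ← Category.assoc, ← Spec.map_comp, ← CommRingCat.ofHom_comp]
      congr 3
      exact congrArg AlgHom.toRingHom ψ.2⟩

theorem toPt_val (hjm : j ≫ m = Spec.map (CommRingCat.ofHom (algebraMap k S)))
    (hjx : Spec.map (CommRingCat.ofHom res₀.toRingHom) ≫ j = x₀) (A : Art k k)
    (ψ : {ψ₀ : S →ₐ[k] A // A.res.comp ψ₀ = res₀}) :
    (toPt m x₀ j res₀ hjm hjx A ψ).1 = Spec.map (CommRingCat.ofHom ψ.1.toRingHom) ≫ j := rfl

theorem toPt_injective (hjm : j ≫ m = Spec.map (CommRingCat.ofHom (algebraMap k S)))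
    (hjx : Spec.map (CommRingCat.ofHom res₀.toRingHom) ≫ j = x₀) (A : Art k k) :
    Function.Injective (toPt m x₀ j res₀ hjm hjx A) := by
  intro ψ ψ' h
  have h1 := congrArg Subtype.val h
  rw [toPt_val, toPt_val, cancel_mono] at h1
  have h2 := Spec.map_injective h1
  apply Subtype.ext
  apply AlgHom.ext
  intro s
  have h3 := ConcreteCategory.congr_hom h2 s
  exact h3

theorem range_subset (A : Art k k) (g : Pts m x₀ A)
    (hjx : Spec.map (CommRingCat.ofHom res₀.toRingHom) ≫ j = x₀) :
    Set.range g.1 ⊆ Set.range j := by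
  rintro _ ⟨z, rfl⟩
  haveI := art_spec_subsingleton A
  let pt : Spec (CommRingCat.of k) := IsLocalRing.closedPoint k
  have hz : z = (Art.specRes A) pt := Subsingleton.elim _ _
  have h1 : g.1 z = (Art.specRes A ≫ g.1) pt := by
    rw [hz]; rfl
  rw [h1, g.2.2, ← hjx]
  exact ⟨_, rfl⟩

theorem toPt_surjective (hjm : j ≫ m = Spec.map (CommRingCat.ofHom (algebraMap k S)))
    (hjx : Spec.map (CommRingCat.ofHom res₀.toRingHom) ≫ j = x₀) (A : Art k k) :
    Function.Surjective (toPt m x₀ j res₀ hjm hjx A) := by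
  intro g
  have hr := range_subset m x₀ j res₀ A g hjx
  let l : Art.spec A ⟶ Spec (CommRingCat.of S) := IsOpenImmersion.lift j g.1 hr
  have hl : l ≫ j = g.1 := IsOpenImmersion.lift_fac j g.1 hr
  let ψ : CommRingCat.of S ⟶ CommRingCat.of A := Spec.preimage l
  have hψ : Spec.map ψ = l := Spec.map_preimage l
  have hcomm : CommRingCat.ofHom (algebraMap k S) ≫ ψ = CommRingCat.ofHom (algebraMap k A) := by
    apply Spec.map_injective
    rw [Spec.map_comp, hψ, ← hjm, ← Category.assoc, hl, g.2.1]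
    rfl
  have haug : ψ ≫ CommRingCat.ofHom A.res.toRingHom = CommRingCat.ofHom res₀.toRingHom := by
    apply Spec.map_injective
    rw [Spec.map_comp, hψ, ← cancel_mono j, Category.assoc, hl, hjx]
    exact g.2.2
  let ψa : S →ₐ[k] A :=
    { ψ.hom with
      commutes' := fun c => by
        have := ConcreteCategory.congr_hom hcomm c
        exact this }
  have hψa : A.res.comp ψa = res₀ := by
    apply AlgHom.ext
    intro s
    have := ConcreteCategory.congr_hom haug s
    exact this
  refine ⟨⟨ψa, hψa⟩, ?_⟩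
  apply Subtype.ext
  rw [toPt_val, ← hl, ← hψ]
  rfl

theorem toPt_bijective (hjm : j ≫ m = Spec.map (CommRingCat.ofHom (algebraMap k S)))
    (hjx : Spec.map (CommRingCat.ofHom res₀.toRingHom) ≫ j = x₀) (A : Art k k) :
    Function.Bijective (toPt m x₀ j res₀ hjm hjx A) :=
  ⟨toPt_injective m x₀ j res₀ hjm hjx A, toPt_surjective m x₀ j res₀ hjm hjx A⟩

end Groth.Agent.H61.LocFun
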