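import Mathlib
import Groth.Agent.H61.LocFun.Compl
import Groth.Agent.H61.LocFun.Pt

set_option autoImplicit false
set_option linter.unusedSectionVars false
universe u
open CategoryTheory CategoryTheory.Limits AlgebraicGeometry

namespace Groth.Agent.H61.LocFun

open ArtFun ArtFun.Art Groth.Agent.H63

variable {k : Type u} [Field k]
variable (M : Scheme.{u}) (m : M ⟶ Spec (CommRingCat.of k))
  (x₀ : Spec (CommRingCat.of k) ⟶ M)

/-- an affine Noetherian chart around a rational point -/
theorem exists_affine_chart [IsLocallyNoetherian M] (hx₀ : x₀ ≫ m = 𝟙 _) :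
    ∃ (S : Type u) (_ : CommRing S) (_ : Algebra k S) (_ : IsNoetherianRing S)
      (j : Spec (CommRingCat.of S) ⟶ M) (_ : IsOpenImmersion j) (res₀ : S →ₐ[k] k),
      j ≫ m = Spec.map (CommRingCat.ofHom (algebraMap k S)) ∧
      Spec.map (CommRingCat.ofHom res₀.toRingHom) ≫ j = x₀ := by
  let pt : Spec (CommRingCat.of k) := IsLocalRing.closedPoint k
  obtain ⟨W, hW, hpW, -⟩ := exists_isAffineOpen_mem_and_subset (X := M) (x := x₀ pt) (U := ⊤) trivial
  haveI : IsNoetherianRing Γ(M, W) := IsLocallyNoetherian.component_noetherian ⟨W, hW⟩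
  let j : Spec Γ(M, W) ⟶ M := hW.fromSpec
  haveI : Subsingleton (Spec (CommRingCat.of k)) := by
    change Subsingleton (PrimeSpectrum k)
    infer_instance
  have hr : Set.range x₀ ⊆ Set.range j := by
    rintro _ ⟨z, rfl⟩
    have hz : z = pt := Subsingleton.elim _ _
    rw [hz, hW.range_fromSpec]
    exact hpW
  let l : Spec (CommRingCat.of k) ⟶ Spec Γ(M, W) := IsOpenImmersion.lift j x₀ hr
  have hl : l ≫ j = x₀ := IsOpenImmersion.lift_fac j x₀ hr
  let a : CommRingCat.of k ⟶ Γ(M, W) := Spec.preimage (j ≫ m)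
  have ha : Spec.map a = j ≫ m := Spec.map_preimage _
  let ε : Γ(M, W) ⟶ CommRingCat.of k := Spec.preimage l
  have hε : Spec.map ε = l := Spec.map_preimage _
  have haε : a ≫ ε = 𝟙 _ := by
    apply Spec.map_injective
    rw [Spec.map_comp, hε, ha, ← Category.assoc, hl, hx₀, Spec.map_id]
  letI alg : Algebra k Γ(M, W) := a.hom.toAlgebra
  let res₀ : Γ(M, W) →ₐ[k] k :=
    { ε.hom with
      commutes' := fun c => by
        have := ConcreteCategory.congr_hom haε c
        exact this }
  refine ⟨Γ(M, W), inferInstance, alg, inferInstance, j, inferInstance, res₀, ?_, ?_⟩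
  · rw [← ha]
    rfl
  · rw [← hl, ← hε]
    rfl

variable {M}

theorem main {S : Type u} [CommRing S] [Algebra k S] [IsNoetherianRing S]
    (j : Spec (CommRingCat.of S) ⟶ M) [IsOpenImmersion j] (res₀ : S →ₐ[k] k)
    (hjm : j ≫ m = Spec.map (CommRingCat.ofHom (algebraMap k S)))
    (hjx : Spec.map (CommRingCat.ofHom res₀.toRingHom) ≫ j = x₀) :
    ∃ (R : ArtFun.CRing k k)
      (e : ∀ A : ArtFun.Art k k, ArtFun.HomSet R.carrier R.res A ≃
        {g : ArtFun.Art.spec A ⟶ M // g ≫ m = ArtFun.Art.specMap (ArtFun.Art.ofBase A) ∧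
          ArtFun.Art.specRes A ≫ g = x₀}),
      ∀ (A B : ArtFun.Art k k) (h : A ⟶ B) (φ : ArtFun.HomSet R.carrier R.res A),
        ((e B) (ArtFun.HomSet.map h φ)).1 = ArtFun.Art.specMap h ≫ ((e A) φ).1 := by
  have hres₀ : Function.Surjective res₀ := fun c => ⟨algebraMap k S c, res₀.commutes c⟩
  refine ⟨complCRing hres₀, fun A => Equiv.ofBijective
    (fun φ => toPt m x₀ j res₀ hjm hjx A (restr A φ))
    ((toPt_bijective m x₀ j res₀ hjm hjx A).comp (restr_bijective A)), ?_⟩
  intro A B h φ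
  change (toPt m x₀ j res₀ hjm hjx B (restr B (HomSet.map h φ))).1 =
    Art.specMap h ≫ (toPt m x₀ j res₀ hjm hjx A (restr A φ)).1
  rw [toPt_val, toPt_val, ← Category.assoc]
  congr 1
  change _ = Spec.map _ ≫ Spec.map _
  rw [← Spec.map_comp, ← CommRingCat.ofHom_comp]
  rfl

end Groth.Agent.H61.LocFun
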